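import Cfsg.Agent.Lib.OddP.Key
import Cfsg.Agent.Lib.Char.Zeros
import Cfsg.Agent.Lib.Char.Degree
import Cfsg.Agent.Lib.Char.Ortho
import Cfsg.Agent.Lib.Core.PSolvable

/-!
# S4745: the case `Q = O_p(G) ≠ 1`

No hypothesis about defect zero.  `G` transitive and faithful on `p^r` points, `OddCent p G`, `p` odd, `2 ∣ |G|`.
* `O_{p'}(G) = 1` (`Key.coprime_normal_eq_bot` with `K = ⊤`).
* Every involution `t` normalizes `Q`, so inverts `Q` (`NoTwoP.inverts`), `Q` is abelian.
* `C = C_G(Q)` has odd order (`NoTwoP.odd_centralizer`), so is solvable (S0205), `O_{p'}(C) ≤ O_{p'}(G) = 1`, `O_p(C) ≤ Q ≤ O_p(C)`, so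
  `C = C_C(O_p(C)) ≤ O_p(C) = Q` by `Solvable.Fitting.centralizer_pCore_le`.  So `C_G(Q) = Q`.
* `g⁻¹ t g t` centralizes `Q` for all `g` (`t` acts as inversion, central in `Aut Q`), so `[G, t] ≤ Q`.  For a Sylow
  subgroup `P ≥ Q` the map `r ↦ r⁻¹ t r t` from `P` to `Q` is injective (no nontrivial `p`-element commutes with `t`),
  so `P = Q` and `G` is `p`-solvable (series `1 ≤ Q ≤ G`).
* 2-defect zero: choose an irreducible `χ` with `Q ≰ ker χ` (faithfulness of the regular character).  Let `T` be a Sylow 2-subgroup.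
  For `s ∈ T`, `s ≠ 1`: `C_Q(s) = 1` (a power of `s` is an involution), so `χ s = 0`
  (`Char.Zeros.character_eq_zero_of_fixedPointFree`).
  So `χ|_T` vanishes off `1`, `[χ|_T, 1_T] = χ(1)/|T|` is an integer: `|T| ∣ χ(1)`.  With `χ(1) ∣ |G|` the 2-part of `χ(1)` is exactly that of `|G|`.
-/

set_option autoImplicit false
set_option linter.style.haveILetI false
set_option linter.unusedSectionVars false

namespace Cfsg.Agent.Lib.OddP.CaseQ

open Cfsg
open Cfsg.Agent.Lib.Blk89.NoTwoP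
open Cfsg.Agent.Lib.Core.Basic

variable {G Ω : Type*} [Group G] [Finite G] [MulAction G Ω] [FaithfulSMul G Ω] [Finite Ω]
  {p : ℕ} [Fact p.Prime]

omit [MulAction G Ω] [FaithfulSMul G Ω] [Finite Ω] in
/-- A nontrivial `p`-element commutes with no nontrivial `2`-element. -/
theorem eq_one_of_commute_two (hC : OddCent p G) {s w : G} (hs : ∃ k : ℕ, orderOf s = 2 ^ k) (hs1 : s ≠ 1)
    (hw : ∃ k : ℕ, orderOf w = p ^ k) (hc : w * s = s * w) : w = 1 := by
  obtain ⟨k, hk⟩ := hs
  have hk0 : k ≠ 0 := by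
    rintro rfl
    rw [pow_zero, orderOf_eq_one_iff] at hk
    exact hs1 hk
  obtain ⟨m, rfl⟩ := Nat.exists_eq_succ_of_ne_zero hk0
  have hu : orderOf (s ^ (2 ^ m)) = 2 := by
    rw [orderOf_pow_of_dvd (pow_ne_zero _ two_ne_zero) (by rw [hk]; exact pow_dvd_pow _ (Nat.le_succ _)), hk,
      Nat.succ_eq_add_one, pow_succ]
    exact Nat.mul_div_cancel_left _ (pow_pos two_pos _)
  refine eq_one_of_commute hC hu hw ?_
  exact ((Commute.pow_right (show Commute w s from hc) (2 ^ m))).symm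

omit [MulAction G Ω] [FaithfulSMul G Ω] [Finite Ω] in
/-- The normal `p`-subgroup `O_p(G)` is a Sylow subgroup when an involution exists, `O_{p'}(G) = 1` and
`OddCent` holds. -/
theorem exists_sylow_eq (hC : OddCent p G) (h2G : 2 ∣ Nat.card G) (hcore : pCore p G ≠ ⊥)
    (hbot : pPrimeCore p G = ⊥) (P : Sylow p G) : (P : Subgroup G) = pCore p G := by
  classical
  set Q : Subgroup G := pCore p G with hQdef
  have hQp : IsPGroup p Q := pCore_isPGroup
  haveI hQn : Q.Normal := pCore_normal p G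
  obtain ⟨t0, ht0⟩ := exists_prime_orderOf_dvd_card' 2 h2G
  have ht : orderOf t0 = 2 := ht0
  have hinvN : ∀ s : G, s ∈ Subgroup.normalizer (Q : Set G) := by
    intro s
    rw [Subgroup.mem_normalizer_iff]
    intro h
    constructor
    · intro hh
      exact hQn.conj_mem h hh s
    · intro hh
      have := hQn.conj_mem _ hh s⁻¹
      simpa [mul_assoc] using this
  -- every involution inverts `Q`
  have hinv : ∀ s : G, orderOf s = 2 → ∀ a ∈ Q, s * a * s⁻¹ = a⁻¹ :=
    fun s hs a ha => inverts hC hs hQp (hinvN s) ha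
  -- the centralizer
  set C : Subgroup G := Subgroup.centralizer (Q : Set G) with hCdef
  have hQC : Q ≤ C := by
    intro a ha
    rw [hCdef, Subgroup.mem_centralizer_iff]
    intro b hb
    exact comm_of_normalized hC ht hQp (hinvN t0) hb ha
  haveI hCn : C.Normal := by
    constructor
    intro c hc g
    rw [hCdef, Subgroup.mem_centralizer_iff] at hc ⊢
    intro b hb
    have h1 : g⁻¹ * b * g ∈ Q := by
      have := hQn.conj_mem b hb g⁻¹
      simpa using this
    have h2 := hc _ h1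
    calc b * (g * c * g⁻¹) = g * ((g⁻¹ * b * g) * c) * g⁻¹ := by group
      _ = g * (c * (g⁻¹ * b * g)) * g⁻¹ := by rw [h2]
      _ = _ := by group
  have hCodd : Odd (Nat.card C) := odd_centralizer hC hQp hcore
  haveI hCsolv : Group.IsSolvable C := Cfsg.Agent.S0205.result hCodd
  have hCp' : pPrimeCore p C = ⊥ := by
    have h1 := map_pPrimeCore_of_isSubnormal (p := p) (K := C) hCn.isSubnormal
    rw [hbot, bot_inf_eq] at h1
    exact (Subgroup.map_eq_bot_iff_of_injective _ C.subtype_injective).mp h1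
  have hCle : C ≤ Q := by
    have h1 := Cfsg.Agent.Lib.Solvable.Fitting.centralizer_pCore_le (G := C) p hCp'
    have h2 := map_pCore_of_isSubnormal (p := p) (K := C) hCn.isSubnormal
    intro c hc
    have h3 : (⟨c, hc⟩ : C) ∈ pCore p C := by
      apply h1
      rw [Subgroup.mem_centralizer_iff]
      intro y hy
      have h4 : (y : G) ∈ (pCore p C).map C.subtype := ⟨y, hy, rfl⟩
      rw [h2] at h4
      apply Subtype.ext
      have h5 := (Subgroup.mem_centralizer_iff.mp hc) (y : G) h4.1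
      simpa using h5
    have h4 : c ∈ (pCore p C).map C.subtype := ⟨_, h3, rfl⟩
    rw [h2] at h4
    exact h4.1
  -- `t` is central modulo `Q`
  have htt : t0 * t0 = 1 := by
    rw [← pow_two, ← ht]
    exact pow_orderOf_eq_one t0
  have htinv : t0⁻¹ = t0 := inv_eq_of_mul_eq_one_left htt
  have hcomm : ∀ g : G, g⁻¹ * t0 * g * t0 ∈ Q := by
    intro g
    apply hCle
    rw [hCdef, Subgroup.mem_centralizer_iff]
    intro a ha
    have hs : orderOf (g⁻¹ * t0 * g) = 2 := by
      rw [← ht]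
      have := MulEquiv.orderOf_eq (MulAut.conj g⁻¹) t0
      simpa [MulAut.conj_apply] using this
    have h1 := hinv t0 ht a ha
    have h2 := hinv _ hs _ (Q.inv_mem ha)
    rw [inv_inv] at h2
    -- `s (t a t⁻¹) s⁻¹ = a`
    have h3 : (g⁻¹ * t0 * g) * (t0 * a * t0⁻¹) * (g⁻¹ * t0 * g)⁻¹ = a := by
      rw [h1]; exact h2
    have h4 : a * (g⁻¹ * t0 * g * t0) = (g⁻¹ * t0 * g * t0) * a := by
      calc a * (g⁻¹ * t0 * g * t0)
          = ((g⁻¹ * t0 * g) * (t0 * a * t0⁻¹) * (g⁻¹ * t0 * g)⁻¹) * (g⁻¹ * t0 * g * t0) := by rw [h3]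
        _ = _ := by group
    exact h4
  -- injection
  have hQP : Q ≤ (P : Subgroup G) := pCore_le_sylow P
  let φ : ↥(P : Subgroup G) → ↥Q := fun r => ⟨(r : G)⁻¹ * t0 * r * t0, hcomm r⟩
  have hφ : Function.Injective φ := by
    intro a b hab
    have h1 : (a : G)⁻¹ * t0 * a * t0 = (b : G)⁻¹ * t0 * b * t0 := congrArg Subtype.val hab
    have h2 : (a : G)⁻¹ * t0 * a = (b : G)⁻¹ * t0 * b := mul_right_cancel h1
    have h3 : (b : G) * (a : G)⁻¹ ∈ (P : Subgroup G) := (P : Subgroup G).mul_mem b.2 ((P : Subgroup G).inv_mem a.2)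
    have h4 : ((b : G) * (a : G)⁻¹) * t0 = t0 * ((b : G) * (a : G)⁻¹) := by
      have h5 : (b : G) * ((a : G)⁻¹ * t0 * a) * (a : G)⁻¹ = (b : G) * ((b : G)⁻¹ * t0 * b) * (a : G)⁻¹ := by rw [h2]
      calc ((b : G) * (a : G)⁻¹) * t0 = (b : G) * ((a : G)⁻¹ * t0 * a) * (a : G)⁻¹ := by group
        _ = (b : G) * ((b : G)⁻¹ * t0 * b) * (a : G)⁻¹ := h5
        _ = _ := by group
    have h6 := eq_one_of_commute hC ht (orderOf_of_mem P.isPGroup' h3) h4.symm
    apply Subtype.ext
    exact (mul_inv_eq_one.mp h6).symm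
  have hcard : Nat.card (P : Subgroup G) ≤ Nat.card Q := Nat.card_le_card_of_injective φ hφ
  exact (Subgroup.eq_of_le_of_card_ge hQP hcard).symm

/-- `p`-solvable part and the vanishing core of the case `O_p(G) ≠ 1`. -/
theorem isPSolvable_of_core_ne_bot (hp2 : p ≠ 2) (hC : OddCent p G)
    (htr : MulAction.IsPretransitive G Ω) {r : ℕ} (hΩ : Nat.card Ω = p ^ r) (h2G : 2 ∣ Nat.card G)
    (hcore : pCore p G ≠ ⊥) : IsPSolvable p G := by
  have hp : p.Prime := Fact.out
  have hbot : pPrimeCore p G = ⊥ :=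
    Key.coprime_normal_eq_bot (K := ⊤) hΩ (fun α β => by
      obtain ⟨g, hg⟩ := htr.exists_smul_eq α β
      exact ⟨g, Subgroup.mem_top _, hg⟩) le_top
      (fun k _ x hx => (pPrimeCore_normal p G).conj_mem x hx k) pPrimeCore_coprime
  obtain ⟨P⟩ : Nonempty (Sylow p G) := inferInstance
  have hP := exists_sylow_eq hC h2G hcore hbot P
  have hQp : IsPGroup p (pCore p G) := pCore_isPGroup
  have hnd : ¬ p ∣ (pCore p G).index := by
    have := P.not_dvd_index
    rwa [hP] at this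
  refine Cfsg.Agent.Lib.Core.PSolvable.isPSolvable_of_normal_of_quotient (pCore p G)
    (Or.inl (exists_card_pCore (p := p) (G := G))) ?_
  apply Cfsg.Agent.Lib.Core.PSolvable.isPSolvable_of_isPOrCoprime
  right
  rw [← Subgroup.index_eq_card]
  exact ((Nat.Prime.coprime_iff_not_dvd hp).mpr hnd).symm

/-- The 2-defect zero character in the case `O_p(G) ≠ 1`. -/
theorem exists_two_defect_zero (hp2 : p ≠ 2) (hC : OddCent p G)
    (htr : MulAction.IsPretransitive G Ω) {r : ℕ} (hΩ : Nat.card Ω = p ^ r) (h2G : 2 ∣ Nat.card G)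
    (hcore : pCore p G ≠ ⊥) :
    ∃ χ : IrrCharacter G, (charDegree (χ : G → ℂ)).factorization 2 = (Nat.card G).factorization 2 := by
  classical
  have hQp : IsPGroup p (pCore p G) := pCore_isPGroup
  haveI hQn : (pCore p G).Normal := pCore_normal p G
  obtain ⟨a, ha⟩ := Subgroup.ne_bot_iff_exists_ne_one.mp hcore
  have ha1 : (a : G) ≠ 1 := fun h => ha (Subtype.ext h)
  obtain ⟨χ, hχ⟩ : ∃ χ : IrrCharacter G, (χ : G → ℂ) (a : G) ≠ (χ : G → ℂ) 1 := by
    by_contra hn
    push_neg at hn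
    exact ha1 (Cfsg.Agent.Lib.Char.Degree.eq_one_of_forall_irr hn)
  refine ⟨χ, ?_⟩
  obtain ⟨n, ρ, hρ, hρχ⟩ := χ.2
  haveI : ρ.IsIrreducible := hρ
  have hker : ∃ h ∈ pCore p G, ρ h ≠ LinearMap.id := by
    refine ⟨a, a.2, fun h => hχ ?_⟩
    rw [← hρχ, Representation.character, Representation.character, h, map_one]
    rfl
  obtain ⟨T⟩ : Nonempty (Sylow 2 G) := inferInstance
  have hT : IsPGroup 2 (T : Subgroup G) := T.isPGroup'
  have h0 : ∀ s ∈ (T : Subgroup G), s ≠ 1 → (χ : G → ℂ) s = 0 := by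
    intro s hs hs1
    rw [← hρχ]
    refine Cfsg.Agent.Lib.Char.Zeros.character_eq_zero_of_fixedPointFree ρ (pCore p G) hker s ?_
    intro h hh hc
    exact eq_one_of_commute_two hC (orderOf_of_mem hT hs) hs1 (orderOf_of_mem hQp hh) hc
  -- the degree of `χ` is a multiple of `|T|`
  have hχc : IsCharacter G (χ : G → ℂ) := Cfsg.Agent.Lib.Char.Basic.isCharacter_of_isIrrCharacter χ.2
  haveI : Fintype (T : Subgroup G) := Fintype.ofFinite _
  obtain ⟨m, hm⟩ := Cfsg.Agent.Lib.Char.Ortho.exists_nat_classInner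
    (Cfsg.Agent.Lib.Char.Basic.isCharacter_restrict (T : Subgroup G) hχc)
    (Cfsg.Agent.Lib.Char.Basic.isCharacter_one (G := (T : Subgroup G)))
  have hsum : ∑ t : (T : Subgroup G), (χ : G → ℂ) (t : G) * (starRingEnd ℂ) (1 : ℂ) = (χ : G → ℂ) 1 := by
    rw [Finset.sum_eq_single (1 : (T : Subgroup G))]
    · simp
    · intro b _ hb
      rw [h0 b b.2 (fun h => hb (Subtype.ext h)), zero_mul]
    · simp
  have hm2 : (χ : G → ℂ) 1 = (Nat.card (T : Subgroup G) : ℂ) * m := by
    unfold Cfsg.classInner at hm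
    rw [hsum] at hm
    rw [← hm, mul_inv_cancel_left₀]
    exact_mod_cast Nat.card_pos.ne'
  have hdeg : charDegree (χ : G → ℂ) = Nat.card (T : Subgroup G) * m :=
    Cfsg.Agent.Lib.Char.Degree.charDegree_eq_of_eq_natCast (by rw [hm2]; push_cast; rfl)
  have hdvd : charDegree (χ : G → ℂ) ∣ Nat.card G := Cfsg.Agent.Lib.Char.Degree.charDegree_dvd_card χ.2
  have hne : charDegree (χ : G → ℂ) ≠ 0 := (Cfsg.Agent.Lib.Char.Degree.charDegree_pos χ.2).ne'
  have hcardT : Nat.card (T : Subgroup G) = 2 ^ (Nat.card G).factorization 2 := T.card_eq_multiplicity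
  apply le_antisymm
  · exact (Nat.factorization_le_iff_dvd hne Nat.card_pos.ne').mpr hdvd 2
  · have : 2 ^ (Nat.card G).factorization 2 ∣ charDegree (χ : G → ℂ) := by
      rw [← hcardT, hdeg]
      exact dvd_mul_right _ _
    exact (Nat.prime_two.pow_dvd_iff_le_factorization hne).mp this

end Cfsg.Agent.Lib.OddP.CaseQ
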