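import Cfsg.Agent.Lib.OddP.Key
import Cfsg.Agent.Lib.OddP.Pairs

/-!
# S4745: products of involutions with different fixed points are `p`-elements

Let `x, y` be involutions with different fixed points, `z = x y` (odd order by `odd_of_ne_fixed`, `z ≠ 1`).
Let `D(z)` be the set of involutions inverting `z`; since all involutions are conjugate and `z` is not an involution
`D(z)` is the set counted in `Pairs.dvd_card_pairs` with `t = x`, so `p ∣ |D(z)|`
(`p ∤ |C(x)|` because a `p`-element commuting with `x` is trivial).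

(1) `C(z)` has odd order: if `t ∈ C(z)` is an involution then `w = t x` inverts `z`; if `w` had odd order
then `w^|w| = 1` would invert `z`, so `z² = 1`, impossible.  So `t x` has even order, so `t` and `x` have the same fixed
point (`fixed_of_even`), similarly `t` and `y`.  Contradiction.

(2) `C = C(z)` is odd and acts transitively on `D(z)` by conjugation: for `y' ∈ D(z)`, `w = x y' ∈ C` has odd order and
`c x c⁻¹ = y'` for a suitable `c ∈ ⟨w⟩`.  So `|D(z)|` divides `|C|`, so `p ∣ |C|`.

(3) `x` normalizes `C`; by `NoTwoP.exists_fixed_sylow` there is an `x`-invariant Sylow `p`-subgroup `A ≠ 1` of `C`;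
`x` inverts `A` by `NoTwoP.inverts`.  Take `a ∈ A`, `a ≠ 1`.  `Key.pElement_of_inverted` gives: `z` is a `p`-element.
-/

set_option autoImplicit false
set_option linter.style.haveILetI false
set_option linter.unusedSectionVars false

namespace Cfsg.Agent.Lib.OddP.ClaimX

open Cfsg
open Cfsg.Agent.Lib.Blk89.NoTwoP
open Cfsg.Agent.Lib.OddP.Basic
open scoped Pointwise

variable {G Ω : Type*} [Group G] [Finite G] [MulAction G Ω] [FaithfulSMul G Ω] [Finite Ω]
  {p : ℕ} [Fact p.Prime]

theorem pElement_of_ne_fixed (c : Ctx p G Ω) {x y : G} (hx : orderOf x = 2) (hy : orderOf y = 2)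
    {α β : Ω} (hxα : x • α = α) (hyβ : y • β = β) (hne : α ≠ β) :
    ∃ k : ℕ, orderOf (x * y) = p ^ k := by
  classical
  have hxx : x * x = 1 := by rw [← pow_two, ← hx]; exact pow_orderOf_eq_one x
  have hyy : y * y = 1 := by rw [← pow_two, ← hy]; exact pow_orderOf_eq_one y
  have hxi : x⁻¹ = x := inv_eq_of_mul_eq_one_left hxx
  have hyi : y⁻¹ = y := inv_eq_of_mul_eq_one_left hyy
  set z := x * y with hz
  have hzodd : Odd (orderOf z) := odd_of_ne_fixed c hx hy hxα hyβ hne
  have hzinv : z⁻¹ = y * x := by rw [hz, mul_inv_rev, hxi, hyi]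
  -- `z ≠ 1`
  have hz1 : z ≠ 1 := by
    intro h
    have hxy : x = y := by
      have : x * y = x * x := by rw [← hz, h, hxx]
      exact (mul_left_cancel this).symm
    obtain ⟨γ, _, hγ⟩ := exists_unique_fixed c hx
    apply hne
    rw [hγ α hxα, hγ β (by rw [hxy]; exact hyβ)]
  have hzz : z * z ≠ 1 := by
    intro h
    have h2 : orderOf z ∣ 2 := orderOf_dvd_of_pow_eq_one (by rw [pow_two]; exact h)
    have h3 : orderOf z = 1 ∨ orderOf z = 2 := (Nat.dvd_prime Nat.prime_two).mp h2
    rcases h3 with h3 | h3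
    · exact hz1 (orderOf_eq_one_iff.mp h3)
    · rw [h3] at hzodd; exact absurd hzodd (by decide)
  have hxz : x * z * x⁻¹ = z⁻¹ := by
    rw [hxi, hzinv, hz]
    calc x * (x * y) * x = (x * x) * y * x := by group
      _ = y * x := by rw [hxx, one_mul]
  have hyz : y * z * y⁻¹ = z⁻¹ := by
    rw [hyi, hzinv, hz]
    calc y * (x * y) * y = y * x * (y * y) := by group
      _ = y * x := by rw [hyy, mul_one]
  -- an inverting element of odd order cannot exist
  have hno_odd : ∀ w : G, w * z * w⁻¹ = z⁻¹ → ¬ Odd (orderOf w) := by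
    intro w hw ho
    have hpow : ∀ k : ℕ, w ^ (2 * k) * z * (w ^ (2 * k))⁻¹ = z ∧
        w ^ (2 * k + 1) * z * (w ^ (2 * k + 1))⁻¹ = z⁻¹ := by
      intro k
      induction k with
      | zero =>
        simp only [Nat.mul_zero, pow_zero, one_mul, inv_one, mul_one, zero_add, pow_one, true_and]
        exact hw
      | succ k ih =>
        have h1 : w ^ (2 * (k + 1)) * z * (w ^ (2 * (k + 1)))⁻¹ = z := by
          have e : 2 * (k + 1) = 1 + (2 * k + 1) := by ring
          rw [e, pow_add, pow_one]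
          calc w * w ^ (2 * k + 1) * z * (w * w ^ (2 * k + 1))⁻¹
              = w * (w ^ (2 * k + 1) * z * (w ^ (2 * k + 1))⁻¹) * w⁻¹ := by group
            _ = w * z⁻¹ * w⁻¹ := by rw [ih.2]
            _ = (w * z * w⁻¹)⁻¹ := by group
            _ = z := by rw [hw, inv_inv]
        refine ⟨h1, ?_⟩
        have e : 2 * (k + 1) + 1 = 1 + 2 * (k + 1) := by ring
        rw [e, pow_add, pow_one]
        calc w * w ^ (2 * (k + 1)) * z * (w * w ^ (2 * (k + 1)))⁻¹
            = w * (w ^ (2 * (k + 1)) * z * (w ^ (2 * (k + 1)))⁻¹) * w⁻¹ := by group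
          _ = w * z * w⁻¹ := by rw [h1]
          _ = z⁻¹ := hw
    obtain ⟨k, hk⟩ := ho
    have h := (hpow k).2
    rw [← hk, pow_orderOf_eq_one, one_mul, inv_one, mul_one] at h
    apply hzz
    calc z * z = z⁻¹ * z := by rw [← h]
      _ = 1 := inv_mul_cancel z
  -- the centralizer has odd order
  let C := Subgroup.centralizer ({z} : Set G)
  have hmemC : ∀ g : G, g ∈ C ↔ z * g = g * z := by
    intro g
    rw [Subgroup.mem_centralizer_singleton_iff]
    exact ⟨fun h => h.symm, fun h => h.symm⟩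
  have hinvo : ∀ t : G, orderOf t = 2 → t ∈ C → False := by
    intro t ht htC
    have htz : t * z * t⁻¹ = z := by
      rw [mul_inv_eq_iff_eq_mul]; exact ((hmemC t).mp htC).symm
    have hinvert : ∀ s : G, s * z * s⁻¹ = z⁻¹ → t * s * z * (t * s)⁻¹ = z⁻¹ := by
      intro s hs
      calc t * s * z * (t * s)⁻¹ = t * (s * z * s⁻¹) * t⁻¹ := by group
        _ = t * z⁻¹ * t⁻¹ := by rw [hs]
        _ = (t * z * t⁻¹)⁻¹ := by group
        _ = z⁻¹ := by rw [htz]
    have he1 : Even (orderOf (t * x)) := by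
      rw [← Nat.not_odd_iff_even]
      exact hno_odd _ (hinvert x hxz)
    have he2 : Even (orderOf (t * y)) := by
      rw [← Nat.not_odd_iff_even]
      exact hno_odd _ (hinvert y hyz)
    obtain ⟨γ, hγ, _⟩ := exists_unique_fixed c ht
    have h1 : x • γ = γ := fixed_of_even c ht hx he1 hγ
    have h2 : y • γ = γ := fixed_of_even c ht hy he2 hγ
    obtain ⟨γ₁, _, hγ₁⟩ := exists_unique_fixed c hx
    obtain ⟨γ₂, _, hγ₂⟩ := exists_unique_fixed c hy
    apply hne
    rw [hγ₁ α hxα, ← hγ₁ γ h1, hγ₂ γ h2, ← hγ₂ β hyβ]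
  have hCodd : Odd (Nat.card C) := by
    rw [← Nat.not_even_iff_odd, even_iff_two_dvd]
    intro h2
    haveI : Fact (Nat.Prime 2) := ⟨Nat.prime_two⟩
    obtain ⟨t, ht⟩ := exists_prime_orderOf_dvd_card' 2 h2
    apply hinvo (t : G)
    · rw [← ht]; exact (Subgroup.orderOf_coe t)
    · exact t.2
  -- the set counted
  have hnC : ¬ p ∣ Nat.card (Subgroup.centralizer ({x} : Set G)) := by
    intro h
    obtain ⟨t, ht⟩ := exists_prime_orderOf_dvd_card' p h
    have ht1 : orderOf (t : G) = p := by rw [← ht]; exact Subgroup.orderOf_coe t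
    have hcomm : x * (t : G) = (t : G) * x := by
      have := t.2
      rw [Subgroup.mem_centralizer_singleton_iff] at this
      exact this.symm
    have := eq_one_of_commute c.hC hx ⟨1, by rw [ht1, pow_one]⟩ hcomm
    rw [this, orderOf_one] at ht1
    exact (Fact.out : p.Prime).one_lt.ne ht1
  have hdvd := Cfsg.Agent.Lib.OddP.Pairs.dvd_card_pairs c.hno x z hnC
  -- the action
  letI act : MulAction ↥C G := MulAction.compHom G ((MulAut.conj : G →* MulAut G).comp C.subtype)
  have hsmul : ∀ (g : ↥C) (u : G), g • u = (g : G) * u * (g : G)⁻¹ := fun g u => rfl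
  have horb : ∀ x' : G, x' ∈ MulAction.orbit ↥C x ↔ (IsConj x x' ∧ IsConj x (x'⁻¹ * z)) := by
    intro x'
    constructor
    · rintro ⟨g, rfl⟩
      change IsConj x ((g : G) * x * (g : G)⁻¹) ∧ IsConj x (((g : G) * x * (g : G)⁻¹)⁻¹ * z)
      refine ⟨isConj_iff.mpr ⟨g, rfl⟩, ?_⟩
      have hy' : ((g : G) * x * (g : G)⁻¹)⁻¹ * z = (g : G) * y * (g : G)⁻¹ := by
        have hgz : z * (g : G) = (g : G) * z := (hmemC _).mp g.2
        have : z = (g : G) * z * (g : G)⁻¹ := by
          rw [← hgz]; group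
        calc ((g : G) * x * (g : G)⁻¹)⁻¹ * z
            = ((g : G) * x * (g : G)⁻¹)⁻¹ * ((g : G) * z * (g : G)⁻¹) := by rw [← this]
          _ = (g : G) * (x⁻¹ * z) * (g : G)⁻¹ := by group
          _ = (g : G) * y * (g : G)⁻¹ := by
            rw [hz, ← mul_assoc x⁻¹ x y, inv_mul_cancel, one_mul]
      rw [hy']
      exact (all_conj c hx hy).trans (isConj_iff.mpr ⟨g, rfl⟩)
    · rintro ⟨h1, h2⟩
      have hconj : ∀ a b : G, IsConj a b → orderOf b = orderOf a := by
        intro a b hab
        obtain ⟨e, rfl⟩ := isConj_iff.mp hab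
        exact (MulAut.conj e).orderOf_eq a
      have hx' : orderOf x' = 2 := by rw [hconj _ _ h1, hx]
      have hu' : orderOf (x'⁻¹ * z) = 2 := by rw [hconj _ _ h2, hx]
      have hx'x' : x' * x' = 1 := by rw [← pow_two, ← hx']; exact pow_orderOf_eq_one x'
      have hx'i : x'⁻¹ = x' := inv_eq_of_mul_eq_one_left hx'x'
      set u := x'⁻¹ * z with hu
      have huu : u * u = 1 := by rw [← pow_two, ← hu']; exact pow_orderOf_eq_one u
      have hui : u⁻¹ = u := inv_eq_of_mul_eq_one_left huu
      have hz' : z = x' * u := by rw [hu, hx'i, ← mul_assoc, hx'x', one_mul]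
      have hx'z : x' * z * x'⁻¹ = z⁻¹ := by
        rw [hx'i, hz', mul_inv_rev, hui, hx'i, ← mul_assoc, hx'x', one_mul]
      -- the product
      set w := x * x' with hw
      have hwC : w ∈ C := by
        rw [hmemC]
        have : w * z * w⁻¹ = z := by
          calc w * z * w⁻¹ = x * (x' * z * x'⁻¹) * x⁻¹ := by rw [hw]; group
            _ = x * z⁻¹ * x⁻¹ := by rw [hx'z]
            _ = (x * z * x⁻¹)⁻¹ := by group
            _ = z := by rw [hxz, inv_inv]
        rw [mul_inv_eq_iff_eq_mul] at this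
        exact this.symm
      have hwo : Odd (orderOf w) := by
        have h3 : orderOf w ∣ Nat.card C := by
          have := orderOf_dvd_natCard (⟨w, hwC⟩ : ↥C)
          rwa [Subgroup.orderOf_mk] at this
        exact Odd.of_dvd_nat hCodd h3
      obtain ⟨k, hk⟩ := hwo
      refine ⟨⟨w ^ k, C.pow_mem hwC k⟩, ?_⟩
      change w ^ k * x * (w ^ k)⁻¹ = x'
      -- `x w x = w⁻¹`
      have hxw : x * w * x⁻¹ = w⁻¹ := by
        rw [hw, mul_inv_rev, hxi, hx'i]
        calc x * (x * x') * x = (x * x) * x' * x := by group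
          _ = x' * x := by rw [hxx, one_mul]
      have hxk : ∀ n : ℕ, x * w ^ n * x⁻¹ = (w ^ n)⁻¹ := by
        intro n
        have : x * w ^ n * x⁻¹ = (x * w * x⁻¹) ^ n := by
          rw [conj_pow]
        rw [this, hxw, inv_pow]
      have h4 : (w ^ k)⁻¹ * x = x * w ^ k := by
        rw [← hxk k, hxi]
        calc x * w ^ k * x * x = x * w ^ k * (x * x) := by group
          _ = x * w ^ k := by rw [hxx, mul_one]
      have h5 : w ^ (2 * k + 1) = 1 := by rw [← hk]; exact pow_orderOf_eq_one w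
      have h6 : x * (w ^ k)⁻¹ = w ^ k * x := by
        have h7 : x * (w ^ k)⁻¹ * x⁻¹ = (x * w ^ k * x⁻¹)⁻¹ := by group
        rw [hxk k, inv_inv, mul_inv_eq_iff_eq_mul] at h7
        exact h7
      have h8 : w ^ (2 * k) = w⁻¹ := by
        rw [eq_inv_iff_mul_eq_one, ← pow_succ]
        exact h5
      calc w ^ k * x * (w ^ k)⁻¹ = w ^ k * (x * (w ^ k)⁻¹) := by group
        _ = w ^ k * (w ^ k * x) := by rw [h6]
        _ = w ^ (2 * k) * x := by rw [two_mul, pow_add, mul_assoc]
        _ = w⁻¹ * x := by rw [h8]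
        _ = x' := by
          rw [hw, mul_inv_rev, hxi, hx'i, mul_assoc, hxx, mul_one]
  -- `p` divides the order of the centralizer
  have hpC : p ∣ Nat.card ↥C := by
    have h1 : Nat.card {x' : G // IsConj x x' ∧ IsConj x (x'⁻¹ * z)} = Nat.card (MulAction.orbit ↥C x) := by
      apply Nat.card_congr
      exact Equiv.subtypeEquivRight (fun x' => (horb x').symm)
    rw [h1] at hdvd
    have h2 := Subgroup.card_mul_index (MulAction.stabilizer ↥C x)
    rw [MulAction.index_stabilizer, ← Nat.card_coe_set_eq] at h2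
    rw [← h2]
    exact Dvd.dvd.mul_left hdvd _
  -- the automorphism
  have hxC : ∀ g : G, g ∈ C → x * g * x⁻¹ ∈ C := by
    intro g hg
    rw [hmemC]
    have hg' : z * g = g * z := (hmemC g).mp hg
    have hzi : z⁻¹ * g = g * z⁻¹ := by
      rw [inv_mul_eq_iff_eq_mul, ← mul_assoc, hg', mul_assoc, mul_inv_cancel, mul_one]
    have h1 : x * z⁻¹ * x⁻¹ = z := by
      have : x * z⁻¹ * x⁻¹ = (x * z * x⁻¹)⁻¹ := by group
      rw [this, hxz, inv_inv]
    calc z * (x * g * x⁻¹) = (x * z⁻¹ * x⁻¹) * (x * g * x⁻¹) := by rw [h1]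
      _ = x * (z⁻¹ * g) * x⁻¹ := by group
      _ = x * (g * z⁻¹) * x⁻¹ := by rw [hzi]
      _ = (x * g * x⁻¹) * (x * z⁻¹ * x⁻¹) := by group
      _ = (x * g * x⁻¹) * z := by rw [h1]
  let τ : MulAut ↥C :=
    { toFun := fun g => ⟨x * g * x⁻¹, hxC g g.2⟩
      invFun := fun g => ⟨x * g * x⁻¹, hxC g g.2⟩
      left_inv := by
        intro g
        apply Subtype.ext
        change x * (x * (g : G) * x⁻¹) * x⁻¹ = g
        rw [hxi]
        calc x * (x * (g : G) * x) * x = (x * x) * g * (x * x) := by group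
          _ = g := by rw [hxx, one_mul, mul_one]
      right_inv := by
        intro g
        apply Subtype.ext
        change x * (x * (g : G) * x⁻¹) * x⁻¹ = g
        rw [hxi]
        calc x * (x * (g : G) * x) * x = (x * x) * g * (x * x) := by group
          _ = g := by rw [hxx, one_mul, mul_one]
      map_mul' := by
        intro g h
        apply Subtype.ext
        change x * ((g : G) * h) * x⁻¹ = (x * g * x⁻¹) * (x * h * x⁻¹)
        group }
  have hττ : τ * τ = 1 := by
    ext g
    change x * (x * (g : G) * x⁻¹) * x⁻¹ = g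
    rw [hxi]
    calc x * (x * (g : G) * x) * x = (x * x) * g * (x * x) := by group
      _ = g := by rw [hxx, one_mul, mul_one]
  obtain ⟨S, hS⟩ := exists_fixed_sylow (p := p) hCodd τ hττ
  have hSτ : ∀ s ∈ (S : Subgroup ↥C), τ s ∈ (S : Subgroup ↥C) := by
    intro s hs
    have h1 : τ • s ∈ τ • (S : Subgroup ↥C) := Subgroup.smul_mem_pointwise_smul _ _ _ hs
    have h2 : τ • (S : Subgroup ↥C) = (S : Subgroup ↥C) :=
      congrArg (fun T : Sylow p ↥C => (T : Subgroup ↥C)) hS
    rw [h2] at h1
    exact h1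
  -- a nontrivial element of `S`
  have hpS : p ∣ Nat.card (S : Subgroup ↥C) := by
    rw [S.card_eq_multiplicity] 
    exact dvd_pow_self p (by
      intro h0
      have := (Nat.factorization_eq_zero_iff _ _).mp h0
      rcases this with h | h | h
      · exact h (Fact.out)
      · exact h hpC
      · exact (Nat.card_pos (α := ↥C)).ne' h)
  obtain ⟨a, ha⟩ := exists_prime_orderOf_dvd_card' p hpS
  have ha' : orderOf (((a : ↥C) : G)) = p := by
    have e : orderOf (((a : ↥C) : G)) = orderOf a := by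
      rw [Subgroup.orderOf_coe, Subgroup.orderOf_coe]
    exact e.trans ha
  have ha1 : ((a : ↥C) : G) ≠ 1 := by
    intro h
    rw [h, orderOf_one] at ha'
    exact (Fact.out : p.Prime).one_lt.ne ha'
  -- `x` inverts the image of `S`
  let R : Subgroup G := (S : Subgroup ↥C).map C.subtype
  have hRp : IsPGroup p R := by
    exact S.isPGroup'.map C.subtype
  have hxN : x ∈ Subgroup.normalizer (R : Set G) := by
    rw [Subgroup.mem_normalizer_iff]
    have hstep : ∀ r : G, r ∈ R → x * r * x⁻¹ ∈ R := by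
      rintro r ⟨s, hs, rfl⟩
      exact ⟨τ s, hSτ s hs, rfl⟩
    intro r
    refine ⟨hstep r, fun h => ?_⟩
    have := hstep _ h
    rw [hxi] at this
    have e : x * (x * r * x) * x = (x * x) * r * (x * x) := by group
    rw [e, hxx, one_mul, mul_one] at this
    exact this
  have hainv : x * ((a : ↥C) : G) * x⁻¹ = ((a : ↥C) : G)⁻¹ :=
    inverts c.hC hx hRp hxN ⟨(a : ↥C), a.2, rfl⟩
  have hacomm : ((a : ↥C) : G) * z = z * ((a : ↥C) : G) := ((hmemC _).mp (a : ↥C).2).symm
  exact Cfsg.Agent.Lib.OddP.Key.pElement_of_inverted c hx ha1 ⟨1, by rw [ha', pow_one]⟩ hainv hacomm hxz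

end Cfsg.Agent.Lib.OddP.ClaimX
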