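import Cfsg.Agent.Lib.OddP.ClaimX

/-!
# S4745: commuting involutions are equal

Fix `x` an involution, `ω` its fixed point.  `I_α` = involutions fixing `α`, `n = |I_α|` (independent of `α` by transitivity;
total number of involutions `= p^r n`).  `Syl(x)` = Sylow `p`-subgroups inverted by `x`, `f = |Syl(x)|`.

(1) For an involution `y` not fixing `ω`, `x y` is a nontrivial `p`-element (`ClaimX`), in a unique Sylow `Q` (`Key.sylow_ti`);
`x` inverts `x y`, so `x Q x⁻¹ ∩ Q ≠ 1`, so `x` normalizes `Q`, so `Q ∈ Syl(x)` (`NoTwoP.inverts`).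
Conversely for `Q ∈ Syl(x)`, `v ∈ Q`, `v ≠ 1`: `x v` is an involution not fixing `ω` (else `v` would fix `ω`, `pElement_free`).
So {involutions not fixing `ω`} is in bijection with `Syl(x) × (Q∖1)` (fibres `x (Q ∖ 1)`, all of size `p^r - 1`, disjoint by TI).
So `(p^r - 1) n = f (p^r - 1)`, so `f = n`.

(2) Take `x` central in a Sylow 2-subgroup `T` of `H = G_ω`.  `I_ω` is a single `H`-class (`all_conj` + uniqueness of fixed
points), `T ≤ C_H(x)`, so `n = |H : C_H(x)|` is odd, so `f` is odd.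

(3) Let `y ≠ x` be an involution commuting with `x`.  It acts on `Syl(x)`, so fixes some `Q` as `f` is odd.  Then `y` inverts `Q`
(`NoTwoP.inverts`) so `x y` centralizes `Q`, so has odd order (`NoTwoP.odd_centralizer`), but `(x y)² = 1`, so `y = x`.

(4) So a 2-central involution commutes with no other involution; by `all_conj` this holds for all involutions.
-/

set_option autoImplicit false
set_option linter.style.haveILetI false
set_option linter.unusedSectionVars false

namespace Cfsg.Agent.Lib.OddP.Count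

open Cfsg
open Cfsg.Agent.Lib.Blk89.NoTwoP
open Cfsg.Agent.Lib.OddP.Basic
open Cfsg.Agent.Lib.OddP

variable {G Ω : Type*} [Group G] [Finite G] [MulAction G Ω] [FaithfulSMul G Ω] [Finite Ω]
  {p : ℕ} [Fact p.Prime]

omit [Finite G] [Finite Ω] [FaithfulSMul G Ω] [Fact p.Prime] in
theorem orderOf_conj' (g y : G) : orderOf (g * y * g⁻¹) = orderOf y :=
  MulEquiv.orderOf_eq (MulAut.conj g) y

omit [Finite G] [Finite Ω] [FaithfulSMul G Ω] [Fact p.Prime] in
theorem mul_self_of_order {y : G} (h : orderOf y = 2) : y * y = 1 := by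
  rw [← pow_two, ← h]
  exact pow_orderOf_eq_one y

/-- Involutions fixing `α`. -/
abbrev FixI (G : Type*) {Ω : Type*} [Group G] [MulAction G Ω] (α : Ω) : Type _ :=
  {y : G // orderOf y = 2 ∧ y • α = α}

/-- Involutions not fixing `α`. -/
abbrev FarI (G : Type*) {Ω : Type*} [Group G] [MulAction G Ω] (α : Ω) : Type _ :=
  {y : G // orderOf y = 2 ∧ y • α ≠ α}

/-- Sylow subgroups inverted by `x`. -/
abbrev SylI (p : ℕ) {G : Type*} [Group G] (x : G) : Type _ :=
  {Q : Sylow p G // ∀ a ∈ (Q : Subgroup G), x * a * x⁻¹ = a⁻¹}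

theorem card_fix_eq (c : Ctx p G Ω) (α β : Ω) : Nat.card (FixI G α) = Nat.card (FixI G β) := by
  haveI := c.htr
  obtain ⟨g, rfl⟩ := MulAction.exists_smul_eq G α β
  refine Nat.card_congr ⟨fun y => ⟨g * y.1 * g⁻¹, ?_, ?_⟩, fun z => ⟨g⁻¹ * z.1 * g, ?_, ?_⟩, ?_, ?_⟩
  · rw [orderOf_conj']
    exact y.2.1
  · have h1 : (g * y.1 * g⁻¹) • g • α = g • y.1 • α := by
      simp only [smul_smul]
      congr 1
      group
    rw [h1, y.2.2]
  · have h1 : g⁻¹ * z.1 * g = g⁻¹ * z.1 * g⁻¹⁻¹ := by rw [inv_inv]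
    rw [h1, orderOf_conj']
    exact z.2.1
  · have h1 : (g⁻¹ * z.1 * g) • α = g⁻¹ • z.1 • g • α := by
      simp only [smul_smul, mul_assoc]
    rw [h1, z.2.2, inv_smul_smul]
  · intro y
    apply Subtype.ext
    simp only
    group
  · intro z
    apply Subtype.ext
    simp only
    group

theorem card_inv (c : Ctx p G Ω) (α : Ω) :
    Nat.card {y : G // orderOf y = 2} = Nat.card Ω * Nat.card (FixI G α) := by
  classical
  letI : Fintype Ω := Fintype.ofFinite Ω
  have hfp : ∀ y : {y : G // orderOf y = 2}, ∃ a : Ω, y.1 • a = a :=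
    fun y => (exists_unique_fixed c y.2).exists
  choose fp hfp using hfp
  let e : {y : G // orderOf y = 2} ≃ Σ a : Ω, FixI G a :=
    { toFun := fun y => ⟨fp y, y.1, y.2, hfp y⟩
      invFun := fun s => ⟨s.2.1, s.2.2.1⟩
      left_inv := fun y => rfl
      right_inv := by
        rintro ⟨a, y, hy, hya⟩
        have h : fp ⟨y, hy⟩ = a := (exists_unique_fixed c hy).unique (hfp ⟨y, hy⟩) hya
        subst h
        rfl }
  rw [Nat.card_congr e, Nat.card_sigma]
  simp_rw [card_fix_eq c _ α]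
  rw [Finset.sum_const, Finset.card_univ, smul_eq_mul, Nat.card_eq_fintype_card (α := Ω)]

theorem card_far (α : Ω) :
    Nat.card (FarI G α) + Nat.card (FixI G α) = Nat.card {y : G // orderOf y = 2} := by
  classical
  rw [← Nat.card_sum]
  refine Nat.card_congr ⟨Sum.elim (fun z => ⟨z.1, z.2.1⟩) (fun z => ⟨z.1, z.2.1⟩),
    fun y => if h : y.1 • α = α then Sum.inr ⟨y.1, y.2, h⟩ else Sum.inl ⟨y.1, y.2, h⟩, ?_, ?_⟩
  · rintro (z | z)
    · simp [z.2.2]
    · simp [z.2.2]
  · intro y
    by_cases h : y.1 • α = α <;> simp [h]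

theorem nonempty_fix (c : Ctx p G Ω) (α : Ω) : Nonempty (FixI G α) := by
  haveI : Fact (Nat.Prime 2) := ⟨Nat.prime_two⟩
  obtain ⟨s, hs⟩ := exists_prime_orderOf_dvd_card' 2 c.h2G
  obtain ⟨β, hβ, -⟩ := exists_unique_fixed c hs
  have h1 : 0 < Nat.card (FixI G β) := by
    have : Nonempty (FixI G β) := ⟨⟨s, hs, hβ⟩⟩
    exact Nat.card_pos
  rw [← card_fix_eq c α β] at h1
  exact (Nat.card_pos_iff.mp h1).1

/-- The number of involutions fixing a point is odd. -/
theorem odd_fix (c : Ctx p G Ω) (α : Ω) : Odd (Nat.card (FixI G α)) := by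
  classical
  haveI : Fact (Nat.Prime 2) := ⟨Nat.prime_two⟩
  obtain ⟨y₀⟩ := nonempty_fix c α
  set H := MulAction.stabilizer G α with hH
  letI : Fintype H := Fintype.ofFinite H
  have h2H : 2 ∣ Nat.card H := by
    have hmem : y₀.1 ∈ H := y₀.2.2
    have h2 : orderOf (⟨y₀.1, hmem⟩ : H) = orderOf y₀.1 := by
      rw [← Subgroup.orderOf_coe]
    rw [← y₀.2.1, ← h2]
    exact orderOf_dvd_natCard _
  let f : Function.End H := fun h => h⁻¹
  have hf : f ^ 2 ^ 1 = 1 := by
    funext h
    change (h⁻¹)⁻¹ = h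
    rw [inv_inv]
  have h1 := Equiv.Perm.card_fixedPoints_modEq (f := f) (p := 2) (n := 1) hf
  let e : Option (FixI G α) ≃ Function.fixedPoints f :=
    { toFun := fun o => match o with
        | none => ⟨1, by change (1 : H)⁻¹ = 1; rw [inv_one]⟩
        | some y => ⟨⟨y.1, y.2.2⟩, by
            change (⟨y.1, y.2.2⟩ : H)⁻¹ = ⟨y.1, y.2.2⟩
            apply Subtype.ext
            have hy : y.1 * y.1 = 1 := mul_self_of_order y.2.1
            exact inv_eq_of_mul_eq_one_left hy⟩
      invFun := fun h => if h1 : ((h.1 : H) : G) = 1 then none else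
        some ⟨(h.1 : G), by
          apply orderOf_eq_prime _ h1
          have h2 : (h.1 : H)⁻¹ = h.1 := h.2
          have h3 : (h.1 : H) * h.1 = 1 := by
            nth_rw 1 [← h2]
            exact inv_mul_cancel _
          rw [pow_two]
          exact congrArg (fun z : H => (z : G)) h3, h.1.2⟩
      left_inv := by
        rintro (_ | y)
        · simp
        · have hy1 : y.1 ≠ 1 := by
            intro h
            have := y.2.1
            rw [h, orderOf_one] at this
            omega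
          simp [hy1]
      right_inv := by
        rintro ⟨h, hh⟩
        by_cases h1 : (h : G) = 1
        · have h2 : h = 1 := Subtype.ext h1
          subst h2
          simp
        · simp [h1] }
  have h3 : Fintype.card (Function.fixedPoints f) = Nat.card (FixI G α) + 1 := by
    rw [← Nat.card_eq_fintype_card, ← Nat.card_congr e, Finite.card_option]
  rw [h3] at h1
  rw [← Nat.card_eq_fintype_card] at h1
  have h4 : Nat.card H % 2 = 0 := Nat.mod_eq_zero_of_dvd h2H
  have h5 : (Nat.card (FixI G α) + 1) % 2 = 0 := by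
    have := h1
    unfold Nat.ModEq at this
    omega
  rw [Nat.odd_iff]
  omega

/-- `Q` and `Ω` have the same size. -/
theorem card_sylow_eq (c : Ctx p G Ω) (Q : Sylow p G) (α : Ω) :
    Nat.card (Q : Subgroup G) = Nat.card Ω := by
  refine Nat.card_congr (Equiv.ofBijective (fun g : (Q : Subgroup G) => (g : G) • α) ⟨?_, ?_⟩)
  · intro g h hgh
    have h1 : ((h : G)⁻¹ * (g : G)) • α = α := by
      rw [mul_smul]
      have h2 : (g : G) • α = (h : G) • α := hgh
      rw [h2, inv_smul_smul]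
    have h2 := sylow_free c Q (Subgroup.mul_mem _ (Subgroup.inv_mem _ h.2) g.2) h1
    apply Subtype.ext
    rw [inv_mul_eq_one] at h2
    exact h2.symm
  · intro β
    obtain ⟨g, hg, hgβ⟩ := sylow_transitive c Q α β
    exact ⟨⟨g, hg⟩, hgβ⟩

/-- The Sylow subgroup of a far involution. -/
theorem exists_syl_of_far (c : Ctx p G Ω) {x : G} (hx : orderOf x = 2) {ω : Ω} (hxω : x • ω = ω)
    (y : FarI G ω) : ∃ Q : SylI p x, x * y.1 ∈ (Q.1 : Subgroup G) ∧ x * y.1 ≠ 1 := by
  classical
  have hxI : x * x = 1 := by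
    rw [← pow_two, ← hx]
    exact pow_orderOf_eq_one x
  have hyI : y.1 * y.1 = 1 := mul_self_of_order y.2.1
  have hxinv : x⁻¹ = x := inv_eq_of_mul_eq_one_left hxI
  have hyinv : y.1⁻¹ = y.1 := inv_eq_of_mul_eq_one_left hyI
  obtain ⟨β, hβ, -⟩ := exists_unique_fixed c y.2.1
  have hne : ω ≠ β := by
    rintro rfl
    exact y.2.2 hβ
  obtain ⟨k, hk⟩ := ClaimX.pElement_of_ne_fixed c hx y.2.1 hxω hβ hne
  have hxy1 : x * y.1 ≠ 1 := by
    intro h
    have h2 : y.1 = x := by
      have h3 := eq_inv_of_mul_eq_one_right h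
      rw [h3, hxinv]
    apply y.2.2
    rw [h2]
    exact hxω
  have hpg : IsPGroup p (Subgroup.zpowers (x * y.1)) :=
    IsPGroup.iff_card.mpr ⟨k, by rw [Nat.card_zpowers, hk]⟩
  obtain ⟨Q, hQ⟩ := hpg.exists_le_sylow
  have hmem : x * y.1 ∈ (Q : Subgroup G) := hQ (Subgroup.mem_zpowers _)
  have hinvmem : (x * y.1)⁻¹ ∈ (Q : Subgroup G) := Subgroup.inv_mem _ hmem
  have hinv2 : (x * y.1)⁻¹ ∈ ((x • Q : Sylow p G) : Subgroup G) := by
    rw [Cfsg.Agent.Lib.InvolChar.Basic.mem_smul_sylow]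
    have h1 : x⁻¹ * (x * y.1)⁻¹ * x = x * y.1 := by
      rw [hxinv, mul_inv_rev, hxinv, hyinv]
      calc x * (y.1 * x) * x = x * y.1 * (x * x) := by group
        _ = x * y.1 := by rw [hxI, mul_one]
    rw [h1]
    exact hmem
  have hti : x • Q = Q := Key.sylow_ti c (x • Q) Q hinv2 hinvmem (inv_ne_one.mpr hxy1)
  have hN : x ∈ Subgroup.normalizer ((Q : Subgroup G) : Set G) :=
    Sylow.smul_eq_iff_mem_normalizer.mp hti
  exact ⟨⟨Q, fun a ha => inverts c.hC hx Q.isPGroup' hN ha⟩, hmem, hxy1⟩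

/-- Counting: `|Far| = f (|Ω| - 1)`. -/
theorem card_far_eq (c : Ctx p G Ω) {x : G} (hx : orderOf x = 2) {ω : Ω} (hxω : x • ω = ω) :
    Nat.card (FarI G ω) = Nat.card (SylI p x) * (Nat.card Ω - 1) := by
  classical
  have hxI : x * x = 1 := by
    rw [← pow_two, ← hx]
    exact pow_orderOf_eq_one x
  have hxinv : x⁻¹ = x := inv_eq_of_mul_eq_one_left hxI
  choose φ hφ hφ1 using exists_syl_of_far (p := p) c hx hxω
  letI : Fintype (SylI p x) := Fintype.ofFinite _
  have hfib : ∀ Q : SylI p x, Nat.card {y : FarI G ω // φ y = Q} =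
      Nat.card {v : G // v ∈ (Q.1 : Subgroup G) ∧ v ≠ 1} := by
    intro Q
    have hv2 : ∀ v : {v : G // v ∈ (Q.1 : Subgroup G) ∧ v ≠ 1}, orderOf (x * v.1) = 2 := by
      intro v
      apply orderOf_eq_prime
      · have h0 := Q.2 v.1 v.2.1
        have h1 : x * v.1 * x = v.1⁻¹ :=
          (congrArg (x * v.1 * ·) hxinv.symm).trans h0
        rw [pow_two]
        calc x * v.1 * (x * v.1) = (x * v.1 * x) * v.1 := by group
          _ = 1 := by rw [h1, inv_mul_cancel]
      · intro h
        have h3 : v.1 = x := (eq_inv_of_mul_eq_one_right h).trans hxinv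
        obtain ⟨k, hk⟩ := orderOf_of_mem Q.1.isPGroup' v.2.1
        have h4 : orderOf v.1 = 2 := by rw [h3]; exact hx
        rw [hk] at h4
        have hp : p.Prime := Fact.out
        have hk0 : k ≠ 0 := by
          rintro rfl
          simp at h4
        have h5 : p ∣ 2 := by
          rw [← h4]
          exact dvd_pow_self p hk0
        exact c.hp2 ((Nat.prime_dvd_prime_iff_eq hp Nat.prime_two).mp h5)
    have hv3 : ∀ v : {v : G // v ∈ (Q.1 : Subgroup G) ∧ v ≠ 1}, (x * v.1) • ω ≠ ω := by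
      intro v h
      have h1 : v.1 • ω = ω := by
        calc v.1 • ω = (x * (x * v.1)) • ω := by rw [← mul_assoc, hxI, one_mul]
          _ = x • ((x * v.1) • ω) := mul_smul _ _ _
          _ = x • ω := by rw [h]
          _ = ω := hxω
      exact v.2.2 (sylow_free c Q.1 v.2.1 h1)
    have hv4 : ∀ v : {v : G // v ∈ (Q.1 : Subgroup G) ∧ v ≠ 1},
        φ ⟨x * v.1, hv2 v, hv3 v⟩ = Q := by
      intro v
      apply Subtype.ext
      have h1 := hφ ⟨x * v.1, hv2 v, hv3 v⟩
      have h2 : x * (x * v.1) = v.1 := by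
        rw [← mul_assoc, hxI, one_mul]
      simp only at h1
      rw [h2] at h1
      exact Key.sylow_ti c _ _ h1 v.2.1 v.2.2
    refine Nat.card_congr ⟨fun y => ⟨x * y.1.1, ?_, ?_⟩, fun v => ⟨⟨x * v.1, hv2 v, hv3 v⟩, hv4 v⟩, ?_, ?_⟩
    · have h0 := hφ y.1
      rw [y.2] at h0
      exact h0
    · exact hφ1 y.1
    · intro y
      apply Subtype.ext
      apply Subtype.ext
      simp only
      rw [← mul_assoc, hxI, one_mul]
    · intro v
      apply Subtype.ext
      simp only
      rw [← mul_assoc, hxI, one_mul]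
  have hQc : ∀ Q : SylI p x, Nat.card {v : G // v ∈ (Q.1 : Subgroup G) ∧ v ≠ 1} = Nat.card Ω - 1 := by
    intro Q
    have h1 := card_sylow_eq c Q.1 ω
    have h2 : Nat.card {v : G // v ∈ (Q.1 : Subgroup G) ∧ v ≠ 1} + 1 = Nat.card (Q.1 : Subgroup G) := by
      have h3 : Nat.card (Option {v : G // v ∈ (Q.1 : Subgroup G) ∧ v ≠ 1}) =
          Nat.card (Q.1 : Subgroup G) := by
        refine Nat.card_congr ⟨fun o => match o with
            | none => 1
            | some v => ⟨v.1, v.2.1⟩,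
          fun g => if h : (g : G) = 1 then none else some ⟨g, g.2, h⟩, ?_, ?_⟩
        · rintro (_ | v)
          · simp
          · simp [v.2.2]
        · intro g
          by_cases h : (g : G) = 1
          · have h2 : g = 1 := Subtype.ext h
            subst h2
            simp
          · simp [h]
      rw [← h3, Finite.card_option]
    omega
  have h1 := Nat.card_congr (Equiv.sigmaFiberEquiv φ)
  rw [← h1, Nat.card_sigma]
  simp_rw [hfib, hQc]
  rw [Finset.sum_const, Finset.card_univ, smul_eq_mul, Nat.card_eq_fintype_card (α := SylI p x)]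

/-- The number of Sylow subgroups inverted by `x` is odd. -/
theorem odd_syl (c : Ctx p G Ω) {x : G} (hx : orderOf x = 2) : Odd (Nat.card (SylI p x)) := by
  have hp : p.Prime := Fact.out
  obtain ⟨ω, hω, -⟩ := exists_unique_fixed c hx
  have h1 := card_far_eq (p := p) c hx hω
  have h2 := card_far (G := G) ω
  have h3 := card_inv c ω
  have h4 := odd_fix c ω
  obtain ⟨r, hr1, hr⟩ := c.hΩ
  have hΩ1 : 1 < Nat.card Ω := by
    rw [hr]
    exact Nat.one_lt_pow (by omega) hp.one_lt
  obtain ⟨m, hm⟩ : ∃ m, Nat.card Ω = m + 1 := ⟨Nat.card Ω - 1, by omega⟩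
  have hm0 : 0 < m := by omega
  rw [hm] at h1 h3
  simp only [Nat.add_sub_cancel] at h1
  have h5 : Nat.card (SylI p x) = Nat.card (FixI G ω) := by
    have h6 : Nat.card (SylI p x) * m + Nat.card (FixI G ω) = (m + 1) * Nat.card (FixI G ω) := by
      rw [← h1, h2, h3]
    have h7 : Nat.card (SylI p x) * m = Nat.card (FixI G ω) * m := by
      nlinarith
    exact Nat.eq_of_mul_eq_mul_right hm0 h7
  rw [h5]
  exact h4

theorem eq_of_commute (c : Ctx p G Ω) {x y : G} (hx : orderOf x = 2) (hy : orderOf y = 2)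
    (hc : x * y = y * x) : y = x := by
  classical
  haveI : Fact (Nat.Prime 2) := ⟨Nat.prime_two⟩
  have hyI : y * y = 1 := by
    rw [← pow_two, ← hy]
    exact pow_orderOf_eq_one y
  have hxI : x * x = 1 := by
    rw [← pow_two, ← hx]
    exact pow_orderOf_eq_one x
  have hyinv : y⁻¹ = y := inv_eq_of_mul_eq_one_left hyI
  have hxinv : x⁻¹ = x := inv_eq_of_mul_eq_one_left hxI
  letI : Fintype (SylI p x) := Fintype.ofFinite _
  have hact : ∀ Q : SylI p x, ∀ a ∈ ((y • Q.1 : Sylow p G) : Subgroup G), x * a * x⁻¹ = a⁻¹ := by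
    intro Q a ha
    rw [Cfsg.Agent.Lib.InvolChar.Basic.mem_smul_sylow] at ha
    have h1 := Q.2 _ ha
    have h2 : a = y * (y⁻¹ * a * y) * y⁻¹ := by group
    have h3 : x * y = y * x := hc
    calc x * a * x⁻¹ = x * (y * (y⁻¹ * a * y) * y⁻¹) * x⁻¹ := by rw [← h2]
      _ = (x * y) * (y⁻¹ * a * y) * (x * y)⁻¹ := by group
      _ = (y * x) * (y⁻¹ * a * y) * (y * x)⁻¹ := by rw [h3]
      _ = y * (x * (y⁻¹ * a * y) * x⁻¹) * y⁻¹ := by group
      _ = y * (y⁻¹ * a * y)⁻¹ * y⁻¹ := by rw [h1]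
      _ = a⁻¹ := by group
  let f : Function.End (SylI p x) := fun Q => ⟨y • Q.1, hact Q⟩
  have hf : f ^ 2 ^ 1 = 1 := by
    funext Q
    apply Subtype.ext
    change y • (y • Q.1) = Q.1
    rw [smul_smul, hyI, one_smul]
  have h1 := Equiv.Perm.card_fixedPoints_modEq (f := f) (p := 2) (n := 1) hf
  have h2 := odd_syl (p := p) c hx
  rw [Nat.card_eq_fintype_card] at h2
  have h3 : Fintype.card (Function.fixedPoints f) ≠ 0 := by
    intro h0
    rw [h0] at h1
    have h4 : Fintype.card (SylI p x) % 2 = 0 := h1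
    obtain ⟨k, hk⟩ := h2
    omega
  obtain ⟨⟨Q, hQ⟩⟩ := Fintype.card_pos_iff.mp (Nat.pos_of_ne_zero h3)
  have hQ2 : y • Q.1 = Q.1 := congrArg Subtype.val hQ
  have hN : y ∈ Subgroup.normalizer ((Q.1 : Subgroup G) : Set G) :=
    Sylow.smul_eq_iff_mem_normalizer.mp hQ2
  have hne : (Q.1 : Subgroup G) ≠ ⊥ := Q.1.ne_bot_of_dvd_card c.hpG
  have hO := odd_centralizer c.hC Q.1.isPGroup' hne
  have hmem : x * y ∈ Subgroup.centralizer (((Q.1 : Subgroup G) : Subgroup G) : Set G) := by
    rw [Subgroup.mem_centralizer_iff]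
    intro a ha
    have h4 := inverts c.hC hy Q.1.isPGroup' hN ha
    have h5 := Q.2 a ha
    have h6 : x * a⁻¹ * x⁻¹ = a := by
      have : x * a⁻¹ * x⁻¹ = (x * a * x⁻¹)⁻¹ := by group
      rw [this, h5, inv_inv]
    have h7 : x * y * a * (x * y)⁻¹ = a := by
      calc x * y * a * (x * y)⁻¹ = x * (y * a * y⁻¹) * x⁻¹ := by group
        _ = a := by rw [h4, h6]
    calc a * (x * y) = (x * y * a * (x * y)⁻¹) * (x * y) := by rw [h7]
      _ = x * y * a := by group
  have hod : Odd (orderOf (x * y)) := by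
    have h8 : orderOf (⟨x * y, hmem⟩ : Subgroup.centralizer (((Q.1 : Subgroup G) : Subgroup G) : Set G)) =
        orderOf (x * y) := by
      rw [← Subgroup.orderOf_coe]
    rw [← h8]
    exact Odd.of_dvd_nat hO (orderOf_dvd_natCard _)
  have hsq : (x * y) ^ 2 = 1 := by
    rw [pow_two]
    calc x * y * (x * y) = x * (y * x) * y := by group
      _ = x * (x * y) * y := by rw [hc]
      _ = (x * x) * (y * y) := by group
      _ = 1 := by rw [hxI, hyI, one_mul]
  have hd : orderOf (x * y) ∣ 2 := orderOf_dvd_of_pow_eq_one hsq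
  have h9 : orderOf (x * y) = 1 := by
    rcases (Nat.dvd_prime Nat.prime_two).mp hd with h | h
    · exact h
    · rw [h] at hod
      exact absurd hod (by decide)
  rw [orderOf_eq_one_iff] at h9
  have h10 := eq_inv_of_mul_eq_one_right h9
  rw [h10, hxinv]

end Cfsg.Agent.Lib.OddP.Count
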