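import Cfsg.Agent.Lib.OddP.Count
import Cfsg.Agent.Lib.IsoTwo.Basic
import Cfsg.Agent.S0205

/-!
# S4745: the no-defect-zero branch is impossible when `O_p(G) = 1`

Let `t` be an involution in a Sylow 2-subgroup `T`.  By `Count.eq_of_commute`, `T` has a unique involution, so `t` is central in `T` and
isolated: the only conjugate of `t` in `T` is `t` itself.  By Glauberman (`S0215` or `IsoTwo.Basic.comm_core_of_isolated`) `[t, G] ≤ N` with `N` normal of odd order.
`N` is solvable (S0205).  If `N ≠ 1` then `F(N) ≠ 1`, so some `O_q(N) ≠ 1`, normal in `G`.  For `q = p` this contradicts `O_p(G) = 1`.  For `q ≠ p`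
this contradicts `Key.coprime_normal_eq_bot` with `K = ⊤`.  So `N = 1`, `t` is central, but then a nontrivial `p`-element commutes with `t` (`p ∣ |G|`):
contradiction with `NoTwoP.eq_one_of_commute`.
-/

set_option autoImplicit false
set_option linter.style.haveILetI false
set_option linter.unusedSectionVars false

namespace Cfsg.Agent.Lib.OddP.Final

open Cfsg
open Cfsg.Agent.Lib.Blk89.NoTwoP
open Cfsg.Agent.Lib.OddP.Basic

variable {G Ω : Type*} [Group G] [Finite G] [MulAction G Ω] [FaithfulSMul G Ω] [Finite Ω]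
  {p : ℕ} [Fact p.Prime]

theorem false_of_core_bot (c : Ctx p G Ω) (hcore : pCore p G = ⊥) : False := by
  classical
  have hp : p.Prime := Fact.out
  haveI h2F : Fact (Nat.Prime 2) := ⟨Nat.prime_two⟩
  obtain ⟨r, -, hr⟩ := c.hΩ
  haveI := c.htr
  obtain ⟨t, ht⟩ := exists_prime_orderOf_dvd_card' 2 c.h2G
  -- `t` is isolated
  have hiso : Cfsg.Agent.Lib.IsoTwo.Isol t := by
    intro g hg
    exact Count.eq_of_commute c ht (by rw [Count.orderOf_conj']; exact ht) hg.eq.symm
  have hcomm := Cfsg.Agent.Lib.IsoTwo.comm_core_of_isolated _ G rfl t ⟨1, by simpa using ht⟩ hiso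
  set N := pPrimeCore 2 G with hN
  haveI hNn : N.Normal := pPrimeCore_normal 2 G
  have hNcop : (Nat.card N).Coprime 2 := Cfsg.Agent.Lib.Core.Basic.pPrimeCore_coprime
  have hNodd : Odd (Nat.card N) := Nat.Coprime.odd_of_right hNcop
  haveI : Group.IsSolvable N := Cfsg.Agent.S0205.result hNodd
  -- `O_{p'}(N) = 1`
  have h1 : pPrimeCore p N = ⊥ := by
    have hnorm : ((pPrimeCore p N).map N.subtype).Normal := inferInstance
    have h0 := Key.coprime_normal_eq_bot hr (K := ⊤) (R := (pPrimeCore p N).map N.subtype)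
      (fun α β => by
        obtain ⟨g, hg⟩ := MulAction.exists_smul_eq G α β
        exact ⟨g, Subgroup.mem_top g, hg⟩)
      le_top (fun k _ x hx => hnorm.conj_mem x hx k)
      (by
        have e : Nat.card ((pPrimeCore p N).map N.subtype) = Nat.card (pPrimeCore p N) :=
          Nat.card_congr (Subgroup.equivMapOfInjective _ _ N.subtype_injective).symm.toEquiv
        rw [e]
        exact Cfsg.Agent.Lib.Core.Basic.pPrimeCore_coprime)
    exact (Subgroup.map_eq_bot_iff_of_injective _ N.subtype_injective).mp h0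
  -- `O_p(N) = 1`
  have h2 : pCore p N = ⊥ := by
    have hnorm : ((pCore p N).map N.subtype).Normal := inferInstance
    have hpg : IsPGroup p ((pCore p N).map N.subtype) :=
      IsPGroup.map Cfsg.Agent.Lib.Core.Basic.pCore_isPGroup _
    have hle := Cfsg.Agent.Lib.Core.Basic.le_pCore hnorm hpg
    rw [hcore, le_bot_iff] at hle
    exact (Subgroup.map_eq_bot_iff_of_injective _ N.subtype_injective).mp hle
  -- hence `N = 1`
  have h3 : ∀ x : N, x = 1 := by
    intro x
    have h4 := Cfsg.Agent.Lib.Solvable.Fitting.centralizer_pCore_le (G := N) p h1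
    rw [h2] at h4
    have h5 : x ∈ Subgroup.centralizer ((⊥ : Subgroup N) : Set N) := by
      rw [Subgroup.mem_centralizer_iff]
      intro y hy
      have hy1 : y = 1 := by simpa using hy
      simp [hy1]
    simpa using h4 h5
  -- `t` is central
  have hcen : ∀ g : G, g * t * g⁻¹ * t⁻¹ = 1 := by
    intro g
    have := h3 ⟨_, hcomm g⟩
    exact congrArg Subtype.val this
  obtain ⟨a, ha⟩ := exists_prime_orderOf_dvd_card' p c.hpG
  have hta : t * a = a * t := by
    have h4 := hcen a
    rw [mul_inv_eq_one, mul_inv_eq_iff_eq_mul] at h4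
    exact h4.symm
  have ha1 := eq_one_of_commute c.hC ht (w := a) ⟨1, by simpa using ha⟩ hta
  rw [ha1, orderOf_one] at ha
  exact hp.one_lt.ne ha

end Cfsg.Agent.Lib.OddP.Final
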