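import Cfsg.Agent.Lib.OddP.Basic
import Cfsg.Agent.Lib.Solvable.Fitting
import Cfsg.Agent.S0205

/-!
# S4745: the key lemma

Abstract form: `K` of odd order (so solvable by S0205) with `O_{p'}(K) = 1`, `σ` an automorphism
inverting `O_p(K)`.  If `σ z = z⁻¹` then `z ∈ O_p(K)`.
Paper: for `b ∈ O_p(K)`: `σ(z b z⁻¹) = z⁻¹ b⁻¹ z`, and also `= (z b z⁻¹)⁻¹ = z b⁻¹ z⁻¹`, so `z²` centralizes
`O_p(K)`, so `z² ∈ O_p(K)` by `Lib.Solvable.Fitting.centralizer_pCore_le`, so `z ∈ ⟨z²⟩ ≤ O_p(K)`.

In `G`: `K = C(a)` for a `p`-element `a ≠ 1` inverted by the involution `u`.  `K` is odd, contains a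
Sylow subgroup (regular on `Ω`), so its normal `p'`-subgroups are trivial (orbits of a normal
subgroup of a transitive group have equal size, a power of `p` dividing the order of the subgroup).
`u` normalizes `K`, hence the image of `O_p(K)` in `G`, so inverts it (`NoTwoP.inverts`).

TI: if `1 ≠ v ∈ P ∩ Q`, both `P, Q` lie in `K = C(v)` and are inverted by involutions inverting `v`,
so both lie in `O_p(K)`, so `P = Q`.
-/

set_option autoImplicit false
set_option linter.style.haveILetI false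
set_option linter.unusedSectionVars false

namespace Cfsg.Agent.Lib.OddP.Key

open Cfsg
open Cfsg.Agent.Lib.Blk89.NoTwoP
open Cfsg.Agent.Lib.OddP.Basic

/-- Abstract key lemma. -/
theorem mem_pCore_of_inverted {K : Type*} [Group K] [Finite K] (hK : Odd (Nat.card K)) {p : ℕ}
    [Fact p.Prime] (h : pPrimeCore p K = ⊥) (σ : K ≃* K)
    (hσ : ∀ b ∈ pCore p K, σ b = b⁻¹) {z : K} (hz : σ z = z⁻¹) : z ∈ pCore p K := by
  haveI : Group.IsSolvable K := Cfsg.Agent.S0205.result hK
  have hcent := Cfsg.Agent.Lib.Solvable.Fitting.centralizer_pCore_le (G := K) p h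
  have hn : (pCore p K).Normal := inferInstance
  -- `z²` centralizes `O_p`
  have h2 : z * z ∈ pCore p K := by
    apply hcent
    rw [Subgroup.mem_centralizer_iff]
    intro b hb
    have hb' : b ∈ pCore p K := hb
    have hbi : b⁻¹ ∈ pCore p K := inv_mem hb'
    have h1 : z * b⁻¹ * z⁻¹ ∈ pCore p K := hn.conj_mem _ hbi z
    have e1 : σ (z * b⁻¹ * z⁻¹) = (z * b⁻¹ * z⁻¹)⁻¹ := hσ _ h1
    have e0 : σ (z * b⁻¹ * z⁻¹) = z⁻¹ * b * z := by
      simp [map_mul, map_inv, hσ b hb', hz]
    rw [e0] at e1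
    simp only [mul_inv_rev, inv_inv] at e1
    rw [← mul_assoc] at e1
    -- `z⁻¹ b z = z b z⁻¹`
    have e2 : b * (z * z) = (z * z) * b := by
      have : z * (z⁻¹ * b * z) * z = z * (z * b * z⁻¹) * z := by rw [e1]
      simp only [mul_assoc, mul_inv_cancel_left, inv_mul_cancel_left, inv_mul_cancel, mul_one] at this
      simpa [mul_assoc] using this
    exact e2
  -- `z` is a power of `z²`
  obtain ⟨m, hm⟩ : Odd (orderOf z) := Odd.of_dvd_nat hK (orderOf_dvd_natCard z)
  have e : z = (z * z) ^ (m + 1) := by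
    rw [← pow_two, ← pow_mul]
    have : 2 * (m + 1) = orderOf z + 1 := by omega
    rw [this, pow_succ, pow_orderOf_eq_one, one_mul]
  rw [e]
  exact pow_mem h2 _

variable {G Ω : Type*} [Group G] [Finite G] [MulAction G Ω] [FaithfulSMul G Ω] [Finite Ω]
  {p : ℕ} [Fact p.Prime]

/-- A subgroup `K ≤ G` transitive on `Ω`, with `|Ω|` a power of `p`, has no nontrivial normal subgroup
of order prime to `p`. -/
theorem coprime_normal_eq_bot {r : ℕ} (hΩ : Nat.card Ω = p ^ r) {K R : Subgroup G}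
    (hK : ∀ α β : Ω, ∃ k ∈ K, k • α = β) (hRK : R ≤ K) (hn : ∀ k ∈ K, ∀ x ∈ R, k * x * k⁻¹ ∈ R)
    (hcop : (Nat.card R).Coprime p) : R = ⊥ := by
  classical
  have hp : p.Prime := Fact.out
  haveI : Fintype Ω := Fintype.ofFinite Ω
  by_cases hE : IsEmpty Ω
  · -- an empty set has cardinality `0`, not a power of `p`
    exfalso
    rw [Nat.card_of_isEmpty] at hΩ
    exact (pow_pos hp.pos r).ne hΩ
  rw [not_isEmpty_iff] at hE
  obtain ⟨α₀⟩ := hE
  -- all orbits have the same size
  have horb : ∀ β : Ω, Nat.card (MulAction.orbit R β) = Nat.card (MulAction.orbit R α₀) := by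
    intro β
    obtain ⟨k, hk, rfl⟩ := hK α₀ β
    refine Nat.card_congr ?_
    refine ⟨fun y => ⟨k⁻¹ • (y : Ω), ?_⟩, fun y => ⟨k • (y : Ω), ?_⟩, ?_, ?_⟩
    · obtain ⟨⟨x, hx⟩, hy⟩ := y.2
      refine ⟨⟨k⁻¹ * x * k, ?_⟩, ?_⟩
      · have := hn k⁻¹ (inv_mem hk) x hx
        simpa using this
      · have hy' : x • (k • α₀) = (y : Ω) := hy
        change (k⁻¹ * x * k) • α₀ = k⁻¹ • (y : Ω)
        rw [← hy', mul_smul, mul_smul]
    · obtain ⟨⟨x, hx⟩, hy⟩ := y.2
      refine ⟨⟨k * x * k⁻¹, hn k hk x hx⟩, ?_⟩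
      have hy' : x • α₀ = (y : Ω) := hy
      change (k * x * k⁻¹) • (k • α₀) = k • (y : Ω)
      rw [← hy', mul_smul, mul_smul, inv_smul_smul]
    · intro y
      apply Subtype.ext
      simp
    · intro y
      apply Subtype.ext
      simp
  set d := Nat.card (MulAction.orbit R α₀) with hd
  -- `d` divides `|R|`
  have hdR : d ∣ Nat.card R := by
    have h1 := (MulAction.stabilizer (↥R) α₀).card_mul_index
    rw [MulAction.index_stabilizer] at h1
    rw [hd, Nat.card_coe_set_eq]
    exact ⟨_, by rw [← h1, mul_comm]⟩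
  -- `d` divides `|Ω|`
  have hdΩ : d ∣ Nat.card Ω := by
    have e := Nat.card_congr (MulAction.selfEquivSigmaOrbits R Ω)
    haveI : Fintype (MulAction.orbitRel.Quotient R Ω) := Fintype.ofFinite _
    rw [e, Nat.card_sigma]
    refine Finset.dvd_sum fun ω _ => ?_
    rw [horb]
  have hd1 : d = 1 := by
    have h1 : d.Coprime p := Nat.Coprime.coprime_dvd_left hdR hcop
    rw [hΩ] at hdΩ
    have h2 : d.Coprime (p ^ r) := h1.pow_right r
    exact Nat.Coprime.eq_one_of_dvd h2 hdΩ
  -- so `R` acts trivially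
  rw [eq_bot_iff]
  intro x hx
  rw [Subgroup.mem_bot]
  apply FaithfulSMul.eq_of_smul_eq_smul (α := Ω)
  intro β
  rw [one_smul]
  have hb := horb β
  rw [hd1] at hb
  have hs : Subsingleton (MulAction.orbit R β) := (Nat.card_eq_one_iff_unique.mp hb).1
  have h1 : (⟨(⟨x, hx⟩ : R) • β, MulAction.mem_orbit _ _⟩ : MulAction.orbit R β) =
      ⟨β, MulAction.mem_orbit_self _⟩ := Subsingleton.elim _ _
  exact congrArg Subtype.val h1

/-- The key lemma in `G`: if `u` inverts the nontrivial `p`-element `a` and `z ∈ C(a)`, then `z` lies in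
the image of `O_p(C(a))` in `G`. -/
theorem mem_core_of_inverted (c : Ctx p G Ω) {u a z : G} (hu : orderOf u = 2) (ha1 : a ≠ 1)
    (hap : ∃ k : ℕ, orderOf a = p ^ k) (hua : u * a * u⁻¹ = a⁻¹) (hcomm : a * z = z * a)
    (huz : u * z * u⁻¹ = z⁻¹) :
    z ∈ (pCore p ↥(Subgroup.centralizer ({a} : Set G))).map
      (Subgroup.centralizer ({a} : Set G)).subtype := by
  classical
  have hp : p.Prime := Fact.out
  obtain ⟨r, -, hr⟩ := c.hΩ
  set C := Subgroup.centralizer ({a} : Set G) with hC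
  have memC : ∀ {x : G}, x ∈ C ↔ a * x = x * a := by
    intro x
    rw [hC, Subgroup.mem_centralizer_singleton_iff]
    exact eq_comm
  have hodd : Odd (Nat.card C) := c.hC a ha1 hap
  -- conjugation by `u` normalizes `C`
  have huinv : u⁻¹ = u := by
    apply inv_eq_of_mul_eq_one_left
    rw [← pow_two, ← hu]
    exact pow_orderOf_eq_one u
  have hconj : ∀ x ∈ C, u * x * u⁻¹ ∈ C := by
    intro x hx
    rw [memC] at hx ⊢
    -- `a⁻¹` commutes with `u x u⁻¹` after conjugating
    have h1 : a⁻¹ * (u * x * u⁻¹) = (u * x * u⁻¹) * a⁻¹ := by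
      rw [← hua]
      simp only [mul_assoc, inv_mul_cancel_left]
      rw [← mul_assoc a x, hx]
      simp [mul_assoc]
    have h2 := congrArg (fun y => a * y * a) h1
    simp only [mul_assoc, mul_inv_cancel_left, mul_inv_cancel, mul_one, inv_mul_cancel] at h2
    simpa [mul_assoc] using h2.symm
  let σ : C ≃* C :=
    { toFun := fun x => ⟨u * x * u⁻¹, hconj x x.2⟩
      invFun := fun x => ⟨u⁻¹ * x * u, by
        have := hconj x x.2
        rw [huinv]
        simpa [huinv] using this⟩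
      left_inv := by
        intro x
        apply Subtype.ext
        simp [mul_assoc]
      right_inv := by
        intro x
        apply Subtype.ext
        simp [mul_assoc]
      map_mul' := by
        intro x y
        apply Subtype.ext
        simp [mul_assoc] }
  have hσ : ∀ x : C, ((σ x : C) : G) = u * x * u⁻¹ := fun _ => rfl
  -- the image of `O_p(C)`
  set R := (pCore p C).map C.subtype with hR
  have hRp : IsPGroup p R := by
    apply IsPGroup.map
    exact Cfsg.Agent.Lib.Core.Basic.pCore_isPGroup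
  -- `u` normalizes it
  have hcoreσ : ∀ x ∈ pCore p C, σ x ∈ pCore p C := by
    intro x hx
    have hch : (pCore p C).Characteristic := inferInstance
    exact (Subgroup.characteristic_iff_le_comap.mp hch σ) hx
  have hfwd : ∀ x ∈ R, u * x * u⁻¹ ∈ R := by
    intro x hx
    obtain ⟨y, hy, rfl⟩ := hx
    exact ⟨σ y, hcoreσ y hy, rfl⟩
  have hN : u ∈ Subgroup.normalizer (R : Set G) := by
    rw [Subgroup.mem_normalizer_iff]
    intro x
    constructor
    · exact hfwd x
    · intro hx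
      have := hfwd _ hx
      have e : u * (u * x * u⁻¹) * u⁻¹ = x := by
        rw [huinv]
        have huu : u * u = 1 := by
          rw [← pow_two, ← hu]
          exact pow_orderOf_eq_one u
        calc u * (u * x * u) * u = (u * u) * x * (u * u) := by group
          _ = x := by rw [huu]; group
      rwa [e] at this
  have hσinv : ∀ b ∈ pCore p C, σ b = b⁻¹ := by
    intro b hb
    apply Subtype.ext
    have := inverts c.hC hu hRp hN (r := (b : G)) ⟨b, hb, rfl⟩
    rw [hσ, this]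
    rfl
  -- `C` contains a Sylow subgroup
  have hpa : IsPGroup p (Subgroup.zpowers a) := by
    obtain ⟨k, hk⟩ := hap
    intro x
    obtain ⟨x, m, rfl⟩ := x
    refine ⟨k, ?_⟩
    apply Subtype.ext
    change (a ^ m) ^ p ^ k = 1
    rw [← zpow_natCast, ← zpow_mul, mul_comm, zpow_mul, zpow_natCast, ← hk, pow_orderOf_eq_one, one_zpow]
  obtain ⟨P, hP⟩ := hpa.exists_le_sylow
  have haP : a ∈ (P : Subgroup G) := hP (Subgroup.mem_zpowers a)
  have hPC : (P : Subgroup G) ≤ C := by
    intro x hx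
    rw [memC]
    exact sylow_comm c P haP hx
  have htrans : ∀ α β : Ω, ∃ k ∈ C, k • α = β := by
    intro α β
    obtain ⟨g, hg, hgα⟩ := sylow_transitive c P α β
    exact ⟨g, hPC hg, hgα⟩
  -- `O_{p'}(C) = 1`
  have hcore : pPrimeCore p C = ⊥ := by
    have hn' := pPrimeCore_normal p C
    have h0 := coprime_normal_eq_bot hr (K := C) (R := (pPrimeCore p C).map C.subtype) htrans
      (by
        rintro _ ⟨y, -, rfl⟩
        exact y.2)
      (by
        rintro k hk _ ⟨y, hy, rfl⟩
        exact ⟨⟨k, hk⟩ * y * (⟨k, hk⟩ : C)⁻¹, hn'.conj_mem y hy _, rfl⟩)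
      (by
        have e : Nat.card ((pPrimeCore p C).map C.subtype) = Nat.card (pPrimeCore p C) :=
          Nat.card_congr (Subgroup.equivMapOfInjective _ _ C.subtype_injective).symm.toEquiv
        rw [e]
        exact Cfsg.Agent.Lib.Core.Basic.pPrimeCore_coprime)
    exact (Subgroup.map_eq_bot_iff_of_injective _ C.subtype_injective).mp h0
  have hzC : z ∈ C := memC.mpr hcomm
  have hσz : σ ⟨z, hzC⟩ = (⟨z, hzC⟩ : C)⁻¹ := by
    apply Subtype.ext
    rw [hσ]
    exact huz
  exact ⟨⟨z, hzC⟩, mem_pCore_of_inverted hodd hcore σ hσinv hσz, rfl⟩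

/-- Consequence: `z` is a `p`-element. -/
theorem pElement_of_inverted (c : Ctx p G Ω) {u a z : G} (hu : orderOf u = 2) (ha1 : a ≠ 1)
    (hap : ∃ k : ℕ, orderOf a = p ^ k) (hua : u * a * u⁻¹ = a⁻¹) (hcomm : a * z = z * a)
    (huz : u * z * u⁻¹ = z⁻¹) : ∃ k : ℕ, orderOf z = p ^ k := by
  obtain ⟨y, hy, rfl⟩ := mem_core_of_inverted c hu ha1 hap hua hcomm huz
  have h1 : IsPGroup p (pCore p ↥(Subgroup.centralizer ({a} : Set G))) :=
    Cfsg.Agent.Lib.Core.Basic.pCore_isPGroup
  obtain ⟨k, hk⟩ := (IsPGroup.iff_orderOf.mp h1) ⟨y, hy⟩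
  refine ⟨k, ?_⟩
  rw [Subgroup.orderOf_mk] at hk
  change orderOf ((y : ↥(Subgroup.centralizer ({a} : Set G))) : G) = _
  rw [Subgroup.orderOf_coe, hk]

/-- Sylow `p`-subgroups are trivial-intersection. -/
theorem sylow_ti (c : Ctx p G Ω) (P Q : Sylow p G) {v : G} (hvP : v ∈ (P : Subgroup G))
    (hvQ : v ∈ (Q : Subgroup G)) (hv1 : v ≠ 1) : P = Q := by
  have hvp : ∃ k : ℕ, orderOf v = p ^ k := (IsPGroup.iff_orderOf.mp P.isPGroup') ⟨v, hvP⟩ |>.imp
    fun k hk => by rwa [Subgroup.orderOf_mk] at hk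
  set R := (pCore p ↥(Subgroup.centralizer ({v} : Set G))).map
    (Subgroup.centralizer ({v} : Set G)).subtype with hR
  have hRp : IsPGroup p R := by
    apply IsPGroup.map
    exact Cfsg.Agent.Lib.Core.Basic.pCore_isPGroup
  have key : ∀ S : Sylow p G, v ∈ (S : Subgroup G) → R = (S : Subgroup G) := by
    intro S hvS
    obtain ⟨t, ht, hinv⟩ := sylow_inverted c S
    have hle : (S : Subgroup G) ≤ R := by
      intro z hz
      exact mem_core_of_inverted c ht hv1 hvp (hinv v hvS) (sylow_comm c S hvS hz) (hinv z hz)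
    exact S.is_maximal' hRp hle
  apply Sylow.ext
  rw [← key P hvP, ← key Q hvQ]

end Cfsg.Agent.Lib.OddP.Key
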